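import Groth.Agent.Lib.DBaseChange.Nilp
import Groth.Agent.Lib.DBaseChange.Adj
import Groth.Agent.Lib.KFlat.Cone
import Mathlib.Algebra.Category.ModuleCat.Biproducts
import Mathlib.RingTheory.Flat.Basic
import Mathlib.Algebra.Polynomial.Div
import Mathlib.Algebra.Homology.HomotopyCategory.ShortExact

/-!
Derived base change along evaluation at zero of a restricted object splits.
-/

set_option autoImplicit false
set_option linter.unusedSectionVars false
set_option linter.style.haveILetI false
set_option backward.isDefEq.respectTransparency false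
set_option backward.isDefEq.respectTransparency.types false

universe u

open CategoryTheory CategoryTheory.Limits CategoryTheory.Pretriangulated
open scoped TensorProduct

attribute [local instance] HasDerivedCategory.standard

namespace Groth.Agent.PolyEval9

open DBaseChange KFlat KFlat.Module

variable (R : Type u) [CommRing R]

/-- Evaluation at zero. -/
noncomputable abbrev ev : Polynomial R →+* R := Polynomial.evalRingHom (0 : R)

/-- Constants. -/
noncomputable abbrev cst : R →+* Polynomial R := Polynomial.C

/-- Evaluation at zero after adding a variable is the identity. -/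
noncomputable def backIso : ModuleCat.extendScalars.{u, u, u} (cst R) ⋙ ModuleCat.extendScalars.{u, u, u} (ev R) ≅ 𝟭 _ :=
  (ModuleCat.extendScalarsComp.{u, u} (cst R) (ev R)).symm ≪≫
    eqToIso (congrArg (fun φ => ModuleCat.extendScalars.{u, u, u} φ)
      (show (ev R).comp (cst R) = RingHom.id R from RingHom.ext fun r => Polynomial.eval_C)) ≪≫
    ModuleCat.extendScalarsId R

/-- Identity map into the doubly restricted module. -/
noncomputable def idRes (M : ModuleCat.{u} R) :
    M ⟶ (ModuleCat.restrictScalars.{u} (cst R)).obj ((ModuleCat.restrictScalars.{u} (ev R)).obj M) :=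
  ModuleCat.ofHom (Y := (ModuleCat.restrictScalars.{u} (cst R)).obj ((ModuleCat.restrictScalars.{u} (ev R)).obj M))
    { toFun := fun m => m
      map_add' := fun _ _ => rfl
      map_smul' := fun r m => by
        show r • (show M from m) = (ev R (cst R r)) • (show M from m)
        simp }

/-- The augmentation `R[x] ⊗ M ⟶ M`. -/
noncomputable def aug : ModuleCat.extendScalars.{u, u, u} (cst R) ⟶ ModuleCat.restrictScalars.{u} (ev R) where
  app M := ((ModuleCat.extendRestrictScalarsAdj.{u, u, u} (cst R)).homEquiv M _).symm (idRes R M)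
  naturality M N g := by
    rw [← Adjunction.homEquiv_naturality_left_symm, ← Adjunction.homEquiv_naturality_right_symm]
    rfl

variable (M : ModuleCat.{u} R)

/-- The sequence `0 → R[x] ⊗ M → R[x] ⊗ M → M → 0`. -/
noncomputable def seq : ShortComplex (ModuleCat.{u} (Polynomial R)) :=
  ShortComplex.mk ((Polynomial.X : Polynomial R) • 𝟙 ((ModuleCat.extendScalars.{u, u, u} (cst R)).obj M))
    ((aug R).app M) (by
      refine ModuleCat.hom_ext (LinearMap.ext fun z => ?_)
      show (aug R).app M ((Polynomial.X : Polynomial R) • z) = 0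
      rw [map_smul]
      show (ev R Polynomial.X) • (show M from (aug R).app M z) = (0 : M)
      simp)

/-- The polynomial ring as a module over constants. -/
noncomputable abbrev PR : ModuleCat.{u} R :=
  (ModuleCat.restrictScalars.{u} (cst R)).obj (ModuleCat.of (Polynomial R) (Polynomial R))

/-- A pure tensor. -/
noncomputable def tm' (p : PR R) (m : M) : (ModuleCat.extendScalars.{u, u, u} (cst R)).obj M := p ⊗ₜ[R] m

theorem aug_tm' (p : PR R) (m : M) :
    (aug R).app M (tm' R M p m) = ev R (show Polynomial R from p) • m := rfl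

theorem smul_tm' (q : Polynomial R) (p : PR R) (m : M) :
    q • tm' R M p m = tm' R M (show PR R from q * (show Polynomial R from p)) m := rfl

/-- Dropping the constant term. -/
noncomputable def divXₗ : PR R →ₗ[R] PR R where
  toFun p := (Polynomial.divX (show Polynomial R from p) : Polynomial R)
  map_add' p q := Polynomial.divX_add
  map_smul' r p := Polynomial.divX_C_mul

/-- Dropping the constant term, tensored. -/
noncomputable def dv : (ModuleCat.extendScalars.{u, u, u} (cst R)).obj M →+ (ModuleCat.extendScalars.{u, u, u} (cst R)).obj M :=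
  (TensorProduct.map (divXₗ R) (LinearMap.id : M →ₗ[R] M)).toAddMonoidHom

theorem dv_tm' (p : PR R) (m : M) :
    dv R M (tm' R M p m) = tm' R M (show PR R from Polynomial.divX (show Polynomial R from p)) m := rfl

/-- The constant term. -/
noncomputable def cn : M →+ (ModuleCat.extendScalars.{u, u, u} (cst R)).obj M :=
  (TensorProduct.mk R (PR R) M (show PR R from (1 : Polynomial R))).toAddMonoidHom

theorem cn_apply (m : M) : cn R M m = tm' R M (show PR R from (1 : Polynomial R)) m := rfl

theorem add_tm' (p q : PR R) (m : M) : tm' R M (p + q) m = tm' R M p m + tm' R M q m :=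
  TensorProduct.add_tmul p q m

theorem tm'_smul (p : PR R) (r : R) (m : M) :
    tm' R M p (r • m) = tm' R M (show PR R from cst R r * (show Polynomial R from p)) m :=
  (TensorProduct.smul_tmul r p m).symm

theorem dv_X_smul (z : (ModuleCat.extendScalars.{u, u, u} (cst R)).obj M) :
    dv R M ((Polynomial.X : Polynomial R) • z) = z := by
  refine TensorProduct.induction_on z ?_ (fun p m => ?_) (fun a b ha hb => ?_)
  · exact (congrArg (dv R M) (smul_zero (Polynomial.X : Polynomial R))).trans (map_zero (dv R M))
  · show dv R M ((Polynomial.X : Polynomial R) • tm' R M p m) = tm' R M p m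
    rw [smul_tm', dv_tm']
    refine congrArg (fun q => tm' R M q m) ?_
    show Polynomial.divX (Polynomial.X * (show Polynomial R from p)) = (show Polynomial R from p)
    ext n
    rw [Polynomial.coeff_divX, Polynomial.coeff_X_mul]
  · exact (congrArg (dv R M) (smul_add (Polynomial.X : Polynomial R)
      (show (ModuleCat.extendScalars.{u, u, u} (cst R)).obj M from a) b)).trans
      ((map_add (dv R M) _ _).trans (congrArg₂ (· + ·) ha hb))

theorem decomp (z : (ModuleCat.extendScalars.{u, u, u} (cst R)).obj M) :
    (Polynomial.X : Polynomial R) • dv R M z + cn R M ((aug R).app M z) = z := by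
  let Φ : (ModuleCat.extendScalars.{u, u, u} (cst R)).obj M →+ (ModuleCat.extendScalars.{u, u, u} (cst R)).obj M :=
    (DistribSMul.toAddMonoidHom _ (Polynomial.X : Polynomial R)).comp (dv R M) +
      (cn R M).comp (((aug R).app M).hom.toAddMonoidHom)
  show Φ z = z
  refine TensorProduct.induction_on z (map_zero Φ) (fun p m => ?_)
    (fun a b ha hb => (map_add Φ _ _).trans (congrArg₂ (· + ·) ha hb))
  show (Polynomial.X : Polynomial R) • dv R M (tm' R M p m) + cn R M ((aug R).app M (tm' R M p m)) = tm' R M p m
  rw [dv_tm', smul_tm', aug_tm', cn_apply]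
  rw [tm'_smul, ← add_tm']
  refine congrArg (fun q : PR R => tm' R M q m) ?_
  show Polynomial.X * Polynomial.divX (show Polynomial R from p) + Polynomial.C (ev R (show Polynomial R from p)) * 1 =
    (show Polynomial R from p)
  rw [mul_one, Polynomial.coe_evalRingHom, ← Polynomial.coeff_zero_eq_eval_zero, Polynomial.X_mul_divX_add]

theorem shortExact_seq : (seq R M).ShortExact := by
  refine ShortComplex.ShortExact.mk' ((ShortComplex.moduleCat_exact_iff _).2 fun z hz => ⟨dv R M z, ?_⟩)
    ((ModuleCat.mono_iff_injective _).2 fun a b hab => ?_) ((ModuleCat.epi_iff_surjective _).2 fun m => ?_)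
  · have h := decomp R M z
    change (aug R).app M z = 0 at hz
    rw [hz, show cn R M (0 : M) = 0 from map_zero _, add_zero] at h
    exact h
  · rw [← dv_X_smul R M a, ← dv_X_smul R M b]
    exact congrArg (dv R M) hab
  · refine ⟨cn R M m, ?_⟩
    show (aug R).app M (tm' R M (show PR R from (1 : Polynomial R)) m) = m
    rw [aug_tm', map_one]
    exact one_smul R _

variable {R}

/-- Extension to the polynomial ring on complexes. -/
noncomputable abbrev up : DRing.Cx R ⥤ DRing.Cx (Polynomial R) := extCx (cst R)

/-- The resolution of a restricted complex. -/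
theorem main (K : Dual.D R) [DRing.HasLBaseChange (ev R)]
    [HasBinaryBiproduct K ((shiftFunctor (Dual.D R) (1 : ℤ)).obj K)] :
    Nonempty ((DRing.LBaseChange (ev R)).obj ((DRing.restrictD (ev R)).obj K) ≅
      K ⊞ (shiftFunctor (Dual.D R) (1 : ℤ)).obj K) := by
  let F := DerivedCategory.Q.objPreimage K
  let eK : DerivedCategory.Q.obj F ≅ K := DerivedCategory.Q.objObjPreimageIso K
  let P := (DT.res R).obj F
  haveI : IsIso (DerivedCategory.Q.map ((DT.aug R).app F)) := Localization.inverts DerivedCategory.Q (DTen.qis R) _ (DT.qis_aug F)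
  let eP : DerivedCategory.Q.obj P ≅ K := asIso (DerivedCategory.Q.map ((DT.aug R).app F)) ≪≫ eK
  let E := (up (R := R)).obj P
  let f : E ⟶ E := (Polynomial.X : Polynomial R) • 𝟙 E
  have hE : Adapted E := adapted_ext (cst R) (adapted_res F)
  let C := CochainComplex.mappingCone f
  have hC : Adapted C := by
    refine ⟨(KFlat.isKFlat_mappingCone_two_out_of_three f).1 hE.1 hE.1,
      (KFlat.isKFlat_mappingCone_two_out_of_three f).1 hE.2.1 hE.2.1, fun n => (isFlat_iff _).2 ?_⟩
    haveI := (isFlat_iff _).1 ((hE.2.2 (n + 1)).biprod (hE.2.2 n))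
    exact _root_.Module.Flat.of_linearEquiv (HomologicalComplex.homotopyCofiber.XIsoBiprod f n (n + 1) rfl).toLinearEquiv
  let P' := ((ModuleCat.restrictScalars.{u} (ev R)).mapHomologicalComplex (ComplexShape.up ℤ)).obj P
  let g : E ⟶ P' := (NatTrans.mapHomologicalComplex (aug R) (ComplexShape.up ℤ)).app P
  have hw : f ≫ g = 0 := HomologicalComplex.hom_ext _ _ fun n => (seq R (P.X n)).zero
  have hS : (ShortComplex.mk f g hw).ShortExact :=
    HomologicalComplex.shortExact_of_degreewise_shortExact _ fun n => shortExact_seq R (P.X n)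
  haveI := CochainComplex.mappingCone.quasiIso_descShortComplex hS
  let i₁ : (DRing.restrictD (ev R)).obj K ≅ DRing.toD C :=
    (DRing.restrictD (ev R)).mapIso eP.symm ≪≫ (ModuleCat.restrictScalars.{u} (ev R)).mapDerivedCategoryFactors.app P ≪≫
      (asIso (DerivedCategory.Q.map (CochainComplex.mappingCone.descShortComplex (ShortComplex.mk f g hw)))).symm
  let G := extCx (ev R)
  let b : G.obj E ≅ P := (NatIso.mapHomologicalComplex (backIso R) (ComplexShape.up ℤ)).app P
  have hf : G.map f = 0 := by
    refine HomologicalComplex.hom_ext _ _ fun n => ModuleCat.hom_ext (LinearMap.ext fun z => ?_)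
    refine TensorProduct.induction_on z (map_zero _) (fun r m => ?_) (fun x y hx hy => ?_)
    · let r' : (ModuleCat.restrictScalars.{u} (ev R)).obj (ModuleCat.of R R) := r
      show r' ⊗ₜ[Polynomial R] ((Polynomial.X : Polynomial R) • m) = 0
      rw [← TensorProduct.smul_tmul, show (Polynomial.X : Polynomial R) • r' = 0 from by
        show ev R Polynomial.X * (show R from r) = 0
        simp]
      exact TensorProduct.zero_tmul _ _
    · exact (map_add _ x y).trans ((congrArg₂ (· + ·) hx hy).trans (add_zero _))
  let i₂ := (DRing.LBaseChange (ev R)).mapIso i₁ ≪≫ valueIso (ev R) C hC ≪≫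
    DerivedCategory.Q.mapIso (CochainComplex.mappingCone.mapHomologicalComplexIso f (ModuleCat.extendScalars.{u, u, u} (ev R)))
  let T := DerivedCategory.Q.mapTriangle.obj (CochainComplex.mappingCone.triangle (G.map f))
  have hT : T ∈ distTriang _ := DerivedCategory.mappingCone_triangle_distinguished _
  obtain ⟨e, -⟩ := exists_iso_binaryBiproduct_of_distTriang T.rotate (rot_of_distTriang _ hT) (by
    show -((shiftFunctor (Dual.D R) (1 : ℤ)).map (DerivedCategory.Q.map (G.map f))) = 0
    rw [hf, Functor.map_zero, Functor.map_zero, neg_zero])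
  let k : DerivedCategory.Q.obj (G.obj E) ≅ K := DerivedCategory.Q.mapIso b ≪≫ eP
  exact ⟨i₂ ≪≫ e ≪≫ biprod.mapIso k ((shiftFunctor (Dual.D R) (1 : ℤ)).mapIso k)⟩

end Groth.Agent.PolyEval9
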